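import Groth.Agent.Etalg.H245.Close
import Mathlib.FieldTheory.KummerPolynomial
import Mathlib.FieldTheory.SeparableClosure
import Mathlib.FieldTheory.IsAlgClosed.Basic
import Mathlib.RingTheory.PowerBasis

/-!
# Approximation of a purely inseparable extension by separable ones

`O` a valuation ring of an algebraically closed field `Ω` of characteristic `p`, `E / Es` a finite purely inseparable
extension of subfields of `Ω`, `Es / K` separable, `t ∈ Es` topologically nilpotent.  There is an `Es`-basis `e` of `E`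
and for every `N` a separable extension `E' / Es` with a generating family `e'` with `v (e' j - e j) ≤ v t ^ N`.
-/

set_option autoImplicit false
universe u

namespace Groth.Agent.Etalg.H245.Approx

open IntermediateField Polynomial Groth.Agent.Etalg.H245.Close

variable {K Ω : Type u} [Field K] [Field Ω] [Algebra K Ω] (O : ValuationSubring Ω)

set_option linter.dupNamespace false in
/-- `E₁` has an `Es`-basis which can be approximated by generating families of separable extensions of `Es`. -/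
def Approx (t : Ω) (Es E₁ : IntermediateField K Ω) : Prop :=
  ∃ (ι : Type) (_ : Fintype ι) (e : ι → Ω), (∀ j, e j ∈ E₁) ∧
    (∀ c : ι → Ω, (∀ j, c j ∈ Es) → ∑ j, c j * e j = 0 → ∀ j, c j = 0) ∧
    (∀ x ∈ E₁, ∃ c : ι → Ω, (∀ j, c j ∈ Es) ∧ x = ∑ j, c j * e j) ∧
    ∀ N : ℕ, ∃ (E' : IntermediateField K Ω) (e' : ι → Ω), Es ≤ E' ∧ FiniteDimensional K E' ∧
      Algebra.IsSeparable K E' ∧ (∀ j, e' j ∈ E') ∧
      (∀ x ∈ E', ∃ c : ι → Ω, (∀ j, c j ∈ Es) ∧ x = ∑ j, c j * e' j) ∧
      ∀ j, O.valuation (e' j - e j) ≤ O.valuation t ^ N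

variable {O}

theorem approx_self (t : Ω) (Es : IntermediateField K Ω) [FiniteDimensional K Es] [Algebra.IsSeparable K Es] :
    Approx O t Es Es := by
  refine ⟨Unit, inferInstance, fun _ => 1, fun _ => one_mem _, fun c _ hc j => ?_, fun x hx => ?_, fun N => ?_⟩
  · simpa using hc
  · exact ⟨fun _ => x, fun _ => hx, by simp⟩
  · exact ⟨Es, fun _ => 1, le_rfl, inferInstance, inferInstance, fun _ => one_mem _,
      fun x hx => ⟨fun _ => x, fun _ => hx, by simp⟩, fun j => by rw [sub_self, map_zero]; exact zero_le⟩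

/-- the powers `1, …, x ^ (p - 1)` are linearly independent over `E₀` if `x ^ p ∈ E₀` and `x ∉ E₀` -/
theorem pow_indep {p : ℕ} [hp : Fact p.Prime] [CharP Ω p] {E₀ : IntermediateField K Ω} {x : Ω} (hxp : x ^ p ∈ E₀)
    (hx0 : x ∉ E₀) (d : Fin p → Ω) (hd : ∀ i, d i ∈ E₀) (h : ∑ i, d i * x ^ (i : ℕ) = 0) : ∀ i, d i = 0 := by
  have hirr : Irreducible (X ^ p - C (⟨x ^ p, hxp⟩ : E₀)) := by
    refine X_pow_sub_C_irreducible_of_prime hp.out fun b hb => hx0 ?_
    have h1 : (b : Ω) ^ p = x ^ p := congrArg Subtype.val hb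
    have h2 : ((b : Ω) - x) ^ p = 0 := by rw [sub_pow_char, h1, sub_self]
    have h3 : (b : Ω) = x := sub_eq_zero.1 (eq_zero_of_pow_eq_zero h2)
    rw [← h3]; exact b.2
  have hmonic : (X ^ p - C (⟨x ^ p, hxp⟩ : E₀)).Monic := monic_X_pow_sub_C _ hp.out.ne_zero
  have hmin : (X ^ p - C (⟨x ^ p, hxp⟩ : E₀)) = minpoly E₀ x := by
    refine minpoly.eq_of_irreducible_of_monic hirr ?_ hmonic
    rw [map_sub, map_pow, aeval_X, aeval_C]
    exact sub_self _
  have hdeg : (minpoly E₀ x).natDegree = p := by rw [← hmin, natDegree_X_pow_sub_C]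
  have hli := linearIndependent_pow (K := E₀) x
  rw [hdeg] at hli
  rw [Fintype.linearIndependent_iff] at hli
  intro i
  have h4 := hli (fun i => ⟨d i, hd i⟩) h i
  exact congrArg Subtype.val h4

theorem exists_mul_pow_le_one {t : Ω} (ht1 : O.valuation t < 1)
    (harch : ∀ z : Ω, ∃ m : ℕ, O.valuation z * O.valuation t ^ m ≤ 1) {ι : Type*} [Fintype ι] (c : ι → Ω) :
    ∃ m : ℕ, ∀ j, O.valuation (c j) * O.valuation t ^ m ≤ 1 := by
  classical
  choose m hm using fun j => harch (c j)
  refine ⟨∑ j, m j, fun j => ?_⟩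
  refine le_trans (mul_le_mul' le_rfl ?_) (hm j)
  exact pow_le_pow_right_of_le_one' ht1.le (Finset.single_le_sum (fun _ _ => Nat.zero_le _) (Finset.mem_univ j))

theorem exists_root [IsAlgClosed Ω] {p : ℕ} [hp : Fact p.Prime] [CharP Ω p] (E' : IntermediateField K Ω)
    [Algebra.IsSeparable K E'] {ε b : Ω} (hε : ε ∈ E') (hε0 : ε ≠ 0) (hb : b ∈ E') :
    ∃ (y : Ω) (f : E'[X]), f.Monic ∧ f.natDegree = p ∧ aeval y f = 0 ∧ y ^ p = ε * y + b ∧ IsSeparable K y := by
  let f : E'[X] := X ^ p + (C (⟨-ε, neg_mem hε⟩ : E') * X + C (⟨-b, neg_mem hb⟩ : E'))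
  have hp2 : 2 ≤ p := hp.out.two_le
  have hlt : (C (⟨-ε, neg_mem hε⟩ : E') * X + C (⟨-b, neg_mem hb⟩ : E')).degree < (p : WithBot ℕ) := by
    refine lt_of_le_of_lt degree_linear_le ?_
    exact_mod_cast (by omega : 1 < p)
  have hmonic : f.Monic := monic_X_pow_add hlt
  have hdeg : f.natDegree = p := natDegree_eq_of_degree_eq_some
    ((degree_add_eq_left_of_degree_lt (by rwa [degree_X_pow])).trans (degree_X_pow _))
  have hder : derivative f = C (⟨-ε, neg_mem hε⟩ : E') := by
    have : CharP E' p := (Algebra.charP_iff E' Ω p).2 inferInstance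
    simp only [f, derivative_add, derivative_X_pow, derivative_C_mul, derivative_X, derivative_C, CharP.cast_eq_zero,
      map_zero, zero_mul, zero_add, mul_one, add_zero]
  have hne : f.degree ≠ 0 := by
    rw [degree_eq_natDegree hmonic.ne_zero, hdeg]
    exact_mod_cast hp.out.ne_zero
  obtain ⟨y, hy⟩ := IsAlgClosed.exists_aeval_eq_zero Ω f hne
  refine ⟨y, f, hmonic, hdeg, hy, ?_, ?_⟩
  · have h1 : y ^ p + (-ε * y + -b) = 0 := by
      have h2 := hy
      simp only [f, map_add, map_pow, aeval_X, map_mul, aeval_C] at h2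
      exact h2
    linear_combination h1
  · have hsep : f.Separable := by
      rw [separable_def, hder]
      have hne' : (⟨-ε, neg_mem hε⟩ : E') ≠ 0 := fun h => hε0 (neg_eq_zero.1 (congrArg Subtype.val h))
      exact ⟨0, C (⟨-ε, neg_mem hε⟩ : E')⁻¹, by rw [zero_mul, zero_add, ← C_mul, inv_mul_cancel₀ hne', C_1]⟩
    have hsep' : IsSeparable E' y := hsep.of_dvd (minpoly.dvd E' y hy)
    exact IsSeparable.of_algebra_isSeparable_of_isSeparable K hsep'

/-- One step of the approximation. -/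
theorem approx_step [IsAlgClosed Ω] {p : ℕ} [hp : Fact p.Prime] [CharP Ω p] {t : Ω}
    {Es E₀ : IntermediateField K Ω} (hEs0 : Es ≤ E₀) (ht : t ∈ Es) (ht0 : t ≠ 0) (ht1 : O.valuation t < 1)
    (harch : ∀ z : Ω, ∃ m : ℕ, O.valuation z * O.valuation t ^ m ≤ 1) (h : Approx O t Es E₀) {x : Ω}
    (hx : O.valuation x ≤ 1) (hxp : x ^ p ∈ E₀) (hx0 : x ∉ E₀) :
    Approx O t Es (E₀ ⊔ adjoin K {x}) := by
  classical
  obtain ⟨ι, _, e, he, hind, hspan, happ⟩ := h
  refine ⟨ι × Fin p, inferInstance, fun q => e q.1 * x ^ (q.2 : ℕ), fun q => ?_, fun c hc hcs => ?_,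
    fun z hz => ?_, fun N => ?_⟩
  · exact mul_mem ((le_sup_left : E₀ ≤ _) (he _))
      (pow_mem ((le_sup_right : adjoin K {x} ≤ _) (mem_adjoin_simple_self K x)) _)
  · rw [Fintype.sum_prod_type_right] at hcs
    have h1 : ∀ i : Fin p, ∑ j, c (j, i) * e j = 0 := by
      refine pow_indep hxp hx0 (fun i => ∑ j, c (j, i) * e j)
        (fun i => sum_mem fun j _ => mul_mem (hEs0 (hc (j, i))) (he j)) ?_
      rw [← hcs]
      refine Finset.sum_congr rfl fun i _ => ?_
      rw [Finset.sum_mul]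
      exact Finset.sum_congr rfl fun j _ => by ring
    rintro ⟨j, i⟩
    exact hind (fun j => c (j, i)) (fun j => hc (j, i)) (h1 i) j
  · have hset := sup_adjoin_eq_polySet E₀ hp.out.pos (y := x) (X ^ p - C (⟨x ^ p, hxp⟩ : E₀))
      (monic_X_pow_sub_C _ hp.out.ne_zero) natDegree_X_pow_sub_C
      (by rw [map_sub, map_pow, aeval_X, aeval_C]; exact sub_self _)
    have hz' : z ∈ polySet (E₀ : Set Ω) p x := by rw [← hset]; exact hz
    obtain ⟨m, hm, rfl⟩ := hz'
    choose c hc hcm using fun i => hspan (m i) (hm i)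
    refine ⟨fun q => c q.2 q.1, fun q => hc q.2 q.1, ?_⟩
    rw [Fintype.sum_prod_type_right]
    refine Finset.sum_congr rfl fun i _ => ?_
    rw [hcm i, Finset.sum_mul]
    exact Finset.sum_congr rfl fun j _ => by ring
  · obtain ⟨c, hc, hxc⟩ := hspan _ hxp
    obtain ⟨m₁, hm₁⟩ := exists_mul_pow_le_one ht1 harch c
    obtain ⟨m₂, hm₂⟩ := exists_mul_pow_le_one ht1 harch e
    obtain ⟨E', e', hle, hfd, hsep, he', hspan', hcl⟩ := happ (p * (N + m₂) + m₁ + (N + m₂))
    have htle : ∀ n, O.valuation t ^ n ≤ 1 := fun n => pow_le_one' ht1.le n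
    set b : Ω := ∑ j, c j * e' j with hbdef
    have hb : b ∈ E' := sum_mem fun j _ => mul_mem (hle (hc j)) (he' j)
    have hbx : O.valuation (b - x ^ p) ≤ O.valuation t ^ (p * (N + m₂)) := by
      rw [hbdef, hxc, ← Finset.sum_sub_distrib]
      refine Valuation.map_sum_le _ fun j _ => ?_
      rw [← mul_sub, map_mul]
      calc O.valuation (c j) * O.valuation (e' j - e j)
          ≤ O.valuation (c j) * O.valuation t ^ (p * (N + m₂) + m₁ + (N + m₂)) := mul_le_mul' le_rfl (hcl j)
        _ = (O.valuation (c j) * O.valuation t ^ m₁) * O.valuation t ^ (N + m₂) * O.valuation t ^ (p * (N + m₂)) := by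
          rw [pow_add, pow_add]; ac_rfl
        _ ≤ 1 * 1 * O.valuation t ^ (p * (N + m₂)) :=
          mul_le_mul' (mul_le_mul' (hm₁ j) (htle _)) le_rfl
        _ = _ := by rw [one_mul, one_mul]
    obtain ⟨y, f, hf, hfn, hfy, hyp, hysep⟩ := exists_root (p := p) E' (ε := t ^ (p * (N + m₂))) (b := b)
      (pow_mem (hle ht) _) (pow_ne_zero _ ht0) hb
    have hxp1 : O.valuation (x ^ p) ≤ 1 := by rw [map_pow]; exact pow_le_one' hx _
    have hb1 : O.valuation b ≤ 1 := by
      have h1 : b = (b - x ^ p) + x ^ p := by ring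
      rw [h1]
      exact (Valuation.map_add _ _ _).trans (max_le (hbx.trans (htle _)) hxp1)
    have hy1 : O.valuation y ≤ 1 := by
      by_contra hcon
      push Not at hcon
      have h1 : O.valuation (y ^ p) ≤ O.valuation y := by
        rw [hyp]
        refine (Valuation.map_add _ _ _).trans (max_le ?_ (hb1.trans hcon.le))
        rw [map_mul, map_pow]
        calc O.valuation t ^ (p * (N + m₂)) * O.valuation y ≤ 1 * O.valuation y := mul_le_mul' (htle _) le_rfl
          _ = _ := one_mul _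
      rw [map_pow] at h1
      have h2 : O.valuation y ^ 1 < O.valuation y ^ p := pow_lt_pow_right₀ hcon hp.out.one_lt
      rw [pow_one] at h2
      exact absurd h1 (not_le.2 h2)
    have hyx : O.valuation (y - x) ≤ O.valuation t ^ (N + m₂) := by
      have h1 : (y - x) ^ p = t ^ (p * (N + m₂)) * y + (b - x ^ p) := by
        rw [sub_pow_char, hyp]; ring
      have h2 : O.valuation (y - x) ^ p ≤ (O.valuation t ^ (N + m₂)) ^ p := by
        rw [← map_pow, h1, ← pow_mul, mul_comm (N + m₂) p]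
        refine (Valuation.map_add _ _ _).trans (max_le ?_ hbx)
        rw [map_mul, map_pow]
        calc O.valuation t ^ (p * (N + m₂)) * O.valuation y ≤ O.valuation t ^ (p * (N + m₂)) * 1 :=
            mul_le_mul' le_rfl hy1
          _ = _ := mul_one _
      exact le_of_pow_le_pow_left₀ hp.out.ne_zero zero_le h2
    have : FiniteDimensional K (adjoin K {y}) := adjoin.finiteDimensional hysep.isIntegral
    have : Algebra.IsSeparable K (adjoin K {y}) := (isSeparable_adjoin_simple_iff_isSeparable K Ω).2 hysep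
    refine ⟨E' ⊔ adjoin K {y}, fun q => e' q.1 * y ^ (q.2 : ℕ), hle.trans le_sup_left,
      IntermediateField.finiteDimensional_sup _ _, inferInstance, fun q => ?_, fun z hz => ?_, fun q => ?_⟩
    · exact mul_mem ((le_sup_left : E' ≤ _) (he' _))
        (pow_mem ((le_sup_right : adjoin K {y} ≤ _) (mem_adjoin_simple_self K y)) _)
    · have hset := sup_adjoin_eq_polySet E' hp.out.pos (y := y) f hf hfn hfy
      have hz' : z ∈ polySet (E' : Set Ω) p y := by rw [← hset]; exact hz
      obtain ⟨m, hm, rfl⟩ := hz'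
      choose c hc hcm using fun i => hspan' (m i) (hm i)
      refine ⟨fun q => c q.2 q.1, fun q => hc q.2 q.1, ?_⟩
      rw [Fintype.sum_prod_type_right]
      refine Finset.sum_congr rfl fun i _ => ?_
      rw [hcm i, Finset.sum_mul]
      exact Finset.sum_congr rfl fun j _ => by ring
    · obtain ⟨j, i⟩ := q
      show O.valuation (e' j * y ^ (i : ℕ) - e j * x ^ (i : ℕ)) ≤ _
      have e1 : e' j * y ^ (i : ℕ) - e j * x ^ (i : ℕ) =
          e j * (y ^ (i : ℕ) - x ^ (i : ℕ)) + (e' j - e j) * y ^ (i : ℕ) := by ring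
      rw [e1]
      refine (Valuation.map_add _ _ _).trans (max_le ?_ ?_)
      · rw [map_mul]
        calc O.valuation (e j) * O.valuation (y ^ (i : ℕ) - x ^ (i : ℕ))
            ≤ O.valuation (e j) * O.valuation t ^ (N + m₂) :=
              mul_le_mul' le_rfl ((valuation_pow_sub_pow_le hx hy1 _).trans hyx)
          _ = (O.valuation (e j) * O.valuation t ^ m₂) * O.valuation t ^ N := by rw [pow_add]; ac_rfl
          _ ≤ 1 * O.valuation t ^ N := mul_le_mul' (hm₂ j) le_rfl
          _ = _ := one_mul _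
      · rw [map_mul, map_pow]
        calc O.valuation (e' j - e j) * O.valuation y ^ (i : ℕ)
            ≤ O.valuation t ^ (p * (N + m₂) + m₁ + (N + m₂)) * 1 := mul_le_mul' (hcl j) (pow_le_one' hy1 _)
          _ = (O.valuation t ^ (p * (N + m₂)) * O.valuation t ^ m₁ * O.valuation t ^ m₂) * O.valuation t ^ N := by
            rw [mul_one, pow_add, pow_add, pow_add _ N]; ac_rfl
          _ ≤ (1 * 1 * 1) * O.valuation t ^ N :=
            mul_le_mul' (mul_le_mul' (mul_le_mul' (htle _) (htle _)) (htle _)) le_rfl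
          _ = _ := by rw [one_mul, one_mul, one_mul]

/-- **Approximation of a purely inseparable extension by separable ones.** -/
theorem exists_approx [IsAlgClosed Ω] {p : ℕ} [hp : Fact p.Prime] [CharP Ω p] {t : Ω}
    {Es E : IntermediateField K Ω} (hle : Es ≤ E) [FiniteDimensional K E] [Algebra.IsSeparable K Es]
    (hpi : ∀ x ∈ E, ∃ n : ℕ, x ^ p ^ n ∈ Es) (ht : t ∈ Es) (ht0 : t ≠ 0) (ht1 : O.valuation t < 1)
    (harch : ∀ z : Ω, ∃ m : ℕ, O.valuation z * O.valuation t ^ m ≤ 1) : Approx O t Es E := by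
  classical
  have hfin : ∀ {H : IntermediateField K Ω}, H ≤ E → FiniteDimensional K H := fun {H} h =>
    FiniteDimensional.of_injective (inclusion h).toLinearMap (inclusion_injective h)
  have := hfin hle
  suffices ∀ (d : ℕ) (E₀ : IntermediateField K Ω), Es ≤ E₀ → E₀ ≤ E → Approx O t Es E₀ →
      Module.finrank K E - Module.finrank K E₀ ≤ d → Approx O t Es E from
    this _ Es le_rfl hle (approx_self t Es) le_rfl
  intro d
  induction d with
  | zero =>
    intro E₀ h0 h1 h2 h3
    have := hfin h1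
    have h4 : E₀ = E := by
      refine IntermediateField.eq_of_le_of_finrank_le h1 ?_
      omega
    rwa [h4] at h2
  | succ d ih =>
    intro E₀ h0 h1 h2 h3
    by_cases hE : E₀ = E
    · rwa [hE] at h2
    have hex : ∃ z ∈ E, z ∉ E₀ := by
      by_contra hcon
      push Not at hcon
      exact hE (le_antisymm h1 hcon)
    obtain ⟨z, hzE, hz0⟩ := hex
    have hexn : ∃ n : ℕ, z ^ p ^ n ∈ E₀ := (hpi z hzE).imp fun _ h => h0 h
    have hn0 : Nat.find hexn ≠ 0 := by
      intro h
      have h5 := Nat.find_spec hexn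
      rw [h, pow_zero, pow_one] at h5
      exact hz0 h5
    obtain ⟨n, hn⟩ := Nat.exists_eq_succ_of_ne_zero hn0
    have hxp : (z ^ p ^ n) ^ p ∈ E₀ := by
      rw [← pow_mul, ← pow_succ, ← Nat.succ_eq_add_one, ← hn]
      exact Nat.find_spec hexn
    have hx0 : z ^ p ^ n ∉ E₀ := Nat.find_min hexn (by omega)
    have hxE : z ^ p ^ n ∈ E := pow_mem hzE _
    -- replace `x` by `x⁻¹` if necessary
    obtain ⟨x, hx1, hxE, hxp, hx0⟩ : ∃ x : Ω, O.valuation x ≤ 1 ∧ x ∈ E ∧ x ^ p ∈ E₀ ∧ x ∉ E₀ := by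
      rcases le_total (O.valuation (z ^ p ^ n)) 1 with h | h
      · exact ⟨_, h, hxE, hxp, hx0⟩
      · refine ⟨(z ^ p ^ n)⁻¹, ?_, inv_mem hxE, ?_, fun h' => hx0 ?_⟩
        · rw [map_inv₀]; exact inv_le_one_of_one_le₀ h
        · rw [inv_pow]; exact inv_mem hxp
        · have := inv_mem h'
          rwa [inv_inv] at this
    have h5 := approx_step h0 ht ht0 ht1 harch h2 hx1 hxp hx0
    have h6 : E₀ ⊔ adjoin K {x} ≤ E := sup_le h1 (adjoin_le_iff.2 (Set.singleton_subset_iff.2 hxE))
    refine ih _ (h0.trans le_sup_left) h6 h5 ?_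
    have := hfin h1
    have := hfin h6
    have h7 : Module.finrank K E₀ < Module.finrank K (E₀ ⊔ adjoin K {x} : IntermediateField K Ω) := by
      by_contra hcon
      push Not at hcon
      have h8 := IntermediateField.eq_of_le_of_finrank_le (le_sup_left : E₀ ≤ E₀ ⊔ adjoin K {x}) hcon
      apply hx0
      rw [h8]
      exact (le_sup_right : adjoin K {x} ≤ _) (mem_adjoin_simple_self K x)
    omega

end Groth.Agent.Etalg.H245.Approx
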