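import Groth.Prelude.Def_EtRam
import Mathlib.RingTheory.Localization.Integral
import Mathlib.RingTheory.DiscreteValuationRing.Basic
import Mathlib.RingTheory.Algebraic.Integral

/-!
# The valuation of an algebraic extension of a discretely valued field is archimedean
-/

set_option autoImplicit false
universe u

namespace Groth.Agent.Etalg.H245.Arch

open EtRam IsLocalRing Polynomial

theorem exists_dvd_pow {B : Type u} [CommRing B] [IsDomain B] [IsDiscreteValuationRing B] {b₀ b : B}
    (hb₀ : b₀ ∈ maximalIdeal B) (hb : b ≠ 0) : ∃ m : ℕ, b ∣ b₀ ^ m := by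
  obtain ⟨π, hπ⟩ := IsDiscreteValuationRing.exists_irreducible B
  obtain ⟨k, u, hk⟩ := IsDiscreteValuationRing.eq_unit_mul_pow_irreducible hb hπ
  have h1 : π ∣ b₀ := by
    rw [hπ.maximalIdeal_eq, Ideal.mem_span_singleton] at hb₀
    exact hb₀
  refine ⟨k, ?_⟩
  rw [hk]
  exact (Units.mul_left_dvd (u := u)).2 (pow_dvd_pow_of_dvd h1 k)

/-- A valuation ring `O` of an algebraic extension `Ω` of `L = Frac B` dominating the discrete valuation ring `B`
is archimedean. -/
theorem arch {B L Ω : Type u} [CommRing B] [IsDomain B] [IsDiscreteValuationRing B] [Field L] [Algebra B L]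
    [IsFractionRing B L] [Field Ω] [Algebra L Ω] [Algebra.IsAlgebraic L Ω] (O : ValuationSubring Ω)
    (hO : Dominates B ((algebraMap L Ω).comp (algebraMap B L)) O) {b₀ : B} (hb₀ : b₀ ∈ maximalIdeal B) (z : Ω) :
    ∃ m : ℕ, O.valuation z * O.valuation (algebraMap L Ω (algebraMap B L b₀)) ^ m ≤ 1 := by
  rcases le_total (O.valuation z) 1 with hz | hz
  · exact ⟨0, by rw [pow_zero, mul_one]; exact hz⟩
  have hz0 : z ≠ 0 := by
    rintro rfl
    rw [map_zero] at hz
    exact absurd hz (not_le.2 zero_lt_one)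
  let i1 : Algebra B Ω := ((algebraMap L Ω).comp (algebraMap B L)).toAlgebra
  have t1 : IsScalarTower B L Ω := IsScalarTower.of_algebraMap_eq fun _ => rfl
  have halg : IsAlgebraic B z⁻¹ := (IsFractionRing.isAlgebraic_iff B L Ω).2 (Algebra.IsAlgebraic.isAlgebraic _)
  obtain ⟨P, hP0, hP⟩ := halg.exists_nonzero_coeff_and_aeval_eq_zero
    (mem_nonZeroDivisors_of_ne_zero (inv_ne_zero hz0))
  obtain ⟨m, hm⟩ := exists_dvd_pow hb₀ hP0
  refine ⟨m, ?_⟩
  have hBO : ∀ b : B, O.valuation (algebraMap B Ω b) ≤ 1 := fun b => (O.valuation_le_one_iff _).2 (hO.1 b)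
  have hw1 : O.valuation z⁻¹ ≤ 1 := by rw [map_inv₀]; exact inv_le_one_of_one_le₀ hz
  have h1 : O.valuation (algebraMap B Ω (P.coeff 0)) ≤ O.valuation z⁻¹ := by
    have h2 : algebraMap B Ω (P.coeff 0) = -(aeval z⁻¹ P.divX * z⁻¹) := by
      have h3 := hP
      rw [← divX_mul_X_add P, map_add, map_mul, aeval_X, aeval_C] at h3
      exact (neg_eq_of_add_eq_zero_right h3).symm
    rw [h2, Valuation.map_neg, map_mul]
    have h4 : O.valuation (aeval z⁻¹ P.divX) ≤ 1 := by
      rw [aeval_eq_sum_range]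
      refine Valuation.map_sum_le _ fun i _ => ?_
      rw [Algebra.smul_def, map_mul, map_pow]
      exact mul_le_one' (hBO _) (pow_le_one' hw1 _)
    calc O.valuation (aeval z⁻¹ P.divX) * O.valuation z⁻¹ ≤ 1 * O.valuation z⁻¹ := mul_le_mul' h4 le_rfl
      _ = _ := one_mul _
  have h5 : O.valuation (algebraMap L Ω (algebraMap B L b₀)) ^ m ≤ O.valuation (algebraMap B Ω (P.coeff 0)) := by
    obtain ⟨c, hc⟩ := hm
    have h6 : algebraMap L Ω (algebraMap B L b₀) ^ m = algebraMap B Ω (P.coeff 0) * algebraMap B Ω c := by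
      rw [← map_mul, ← hc, map_pow]; rfl
    rw [← map_pow, h6, map_mul]
    calc O.valuation (algebraMap B Ω (P.coeff 0)) * O.valuation (algebraMap B Ω c)
        ≤ O.valuation (algebraMap B Ω (P.coeff 0)) * 1 := mul_le_mul' le_rfl (hBO c)
      _ = _ := mul_one _
  calc O.valuation z * O.valuation (algebraMap L Ω (algebraMap B L b₀)) ^ m
      ≤ O.valuation z * O.valuation z⁻¹ := mul_le_mul' le_rfl (h5.trans h1)
    _ = 1 := by rw [← map_mul, mul_inv_cancel₀ hz0, map_one]

end Groth.Agent.Etalg.H245.Arch
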