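import Groth.Agent.Etalg.ResInd
import Mathlib.FieldTheory.IntermediateField.Adjoin.Basic
import Mathlib.FieldTheory.IntermediateField.Adjoin.Algebra

/-!
# Close subsets of a valued field

`Near O γ S S'`: every element of one of the sets is approximated by an element of the other one, with relative
error at most `γ`.
-/

set_option autoImplicit false
universe u

namespace Groth.Agent.Etalg.H245.Close

variable {Ω : Type u} [Field Ω] (O : ValuationSubring Ω)

/-- the sets `S` and `S'` approximate each other with relative error `γ` -/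
def Near (γ : O.ValueGroup) (S S' : Set Ω) : Prop :=
  (∀ z ∈ S, ∃ z' ∈ S', O.valuation (z' - z) ≤ γ * O.valuation z) ∧
  (∀ z' ∈ S', ∃ z ∈ S, O.valuation (z' - z) ≤ γ * O.valuation z)

variable {O}

theorem Near.refl {γ : O.ValueGroup} (S : Set Ω) : Near O γ S S :=
  ⟨fun z hz => ⟨z, hz, by rw [sub_self, map_zero]; exact zero_le⟩,
    fun z hz => ⟨z, hz, by rw [sub_self, map_zero]; exact zero_le⟩⟩

theorem Near.mono {γ γ' : O.ValueGroup} {S S' : Set Ω} (h : Near O γ S S') (hγ : γ ≤ γ') : Near O γ' S S' :=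
  ⟨fun z hz => (h.1 z hz).imp fun _ hw => ⟨hw.1, hw.2.trans (mul_le_mul' hγ le_rfl)⟩,
    fun z hz => (h.2 z hz).imp fun _ hw => ⟨hw.1, hw.2.trans (mul_le_mul' hγ le_rfl)⟩⟩

/-- relative error `< 1`: the values agree -/
theorem valuation_eq_of_le {γ : O.ValueGroup} (hγ : γ < 1) {z z' : Ω}
    (h : O.valuation (z' - z) ≤ γ * O.valuation z) : O.valuation z' = O.valuation z := by
  rcases eq_or_ne z 0 with rfl | hz
  · rw [map_zero, mul_zero, sub_zero] at h
    rw [map_zero]; exact le_antisymm h zero_le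
  have hpos : 0 < O.valuation z := zero_lt_iff.2 ((Valuation.ne_zero_iff _).2 hz)
  have h1 : O.valuation (z' - z) < O.valuation z := by
    refine h.trans_lt ?_
    calc γ * O.valuation z < 1 * O.valuation z := (mul_lt_mul_iff_left₀ hpos).2 hγ
      _ = O.valuation z := one_mul _
  have h2 := Valuation.map_add_eq_of_lt_right O.valuation h1
  rwa [sub_add_cancel] at h2

theorem valuation_pow_sub_pow_le {x y : Ω} (hx : O.valuation x ≤ 1) (hy : O.valuation y ≤ 1) (n : ℕ) :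
    O.valuation (y ^ n - x ^ n) ≤ O.valuation (y - x) := by
  have hx' : x ∈ O := (O.valuation_le_one_iff x).1 hx
  have hy' : y ∈ O := (O.valuation_le_one_iff y).1 hy
  have h1 : ((⟨y, hy'⟩ : O) - ⟨x, hx'⟩) ∣ (⟨y, hy'⟩ : O) ^ n - (⟨x, hx'⟩ : O) ^ n := sub_dvd_pow_sub_pow _ _ _
  obtain ⟨c, hc⟩ := h1
  have h2 : y ^ n - x ^ n = (y - x) * (c : Ω) := congrArg Subtype.val hc
  rw [h2, map_mul]
  have h3 : O.valuation (c : Ω) ≤ 1 := (O.valuation_le_one_iff _).2 c.2
  calc O.valuation (y - x) * O.valuation (c : Ω) ≤ O.valuation (y - x) * 1 := mul_le_mul' le_rfl h3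
    _ = _ := mul_one _

/-- the set of polynomial expressions of degree `< n` in `x` with coefficients in `S` -/
def polySet (S : Set Ω) (n : ℕ) (x : Ω) : Set Ω :=
  {z | ∃ m : Fin n → Ω, (∀ j, m j ∈ S) ∧ z = ∑ j, m j * x ^ (j : ℕ)}

theorem valuation_sum_sub_le {γ₀ γ C δ : O.ValueGroup} (hγ₀ : γ₀ ≤ 1) {n : ℕ} {x y : Ω}
    (hx : O.valuation x ≤ 1) (hy : O.valuation y ≤ 1) (hδ : O.valuation (y - x) ≤ δ)
    (h1 : γ₀ * C ≤ γ) (h2 : δ * C ≤ γ) (m m' : Fin n → Ω)
    (hm : ∀ j, O.valuation (m' j - m j) ≤ γ₀ * O.valuation (m j))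
    (hb : ∀ j, O.valuation (m j) ≤ C * O.valuation (∑ j, m j * x ^ (j : ℕ))) :
    O.valuation (∑ j, m' j * y ^ (j : ℕ) - ∑ j, m j * x ^ (j : ℕ)) ≤
      γ * O.valuation (∑ j, m j * x ^ (j : ℕ)) := by
  rw [← Finset.sum_sub_distrib]
  refine Valuation.map_sum_le _ fun j _ => ?_
  have e : m' j * y ^ (j : ℕ) - m j * x ^ (j : ℕ) = m' j * (y ^ (j : ℕ) - x ^ (j : ℕ)) + (m' j - m j) * x ^ (j : ℕ) := by
    ring
  rw [e]
  have hm' : O.valuation (m' j) ≤ O.valuation (m j) := by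
    have h3 : m' j = m j + (m' j - m j) := by ring
    rw [h3]
    refine (Valuation.map_add _ _ _).trans (max_le le_rfl ((hm j).trans ?_))
    calc γ₀ * O.valuation (m j) ≤ 1 * O.valuation (m j) := mul_le_mul' hγ₀ le_rfl
      _ = _ := one_mul _
  refine (Valuation.map_add _ _ _).trans (max_le ?_ ?_)
  · rw [map_mul]
    calc O.valuation (m' j) * O.valuation (y ^ (j : ℕ) - x ^ (j : ℕ))
        ≤ O.valuation (m j) * δ := mul_le_mul' hm' ((valuation_pow_sub_pow_le hx hy _).trans hδ)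
      _ ≤ (C * O.valuation (∑ j, m j * x ^ (j : ℕ))) * δ := mul_le_mul' (hb j) le_rfl
      _ = (δ * C) * O.valuation (∑ j, m j * x ^ (j : ℕ)) := by rw [mul_comm, mul_assoc]
      _ ≤ _ := mul_le_mul' h2 le_rfl
  · rw [map_mul, map_pow]
    calc O.valuation (m' j - m j) * O.valuation x ^ (j : ℕ)
        ≤ (γ₀ * O.valuation (m j)) * 1 := mul_le_mul' (hm j) (pow_le_one' hx _)
      _ = γ₀ * O.valuation (m j) := mul_one _
      _ ≤ γ₀ * (C * O.valuation (∑ j, m j * x ^ (j : ℕ))) := mul_le_mul' le_rfl (hb j)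
      _ = (γ₀ * C) * O.valuation (∑ j, m j * x ^ (j : ℕ)) := by rw [mul_assoc]
      _ ≤ _ := mul_le_mul' h1 le_rfl

/-- One step of the approximation: adjoining `x`, resp. `y` close to `x`. -/
theorem close_polySet {γ₀ γ C δ : O.ValueGroup} (hγ₀ : γ₀ ≤ 1) {S₀ S₀' : Set Ω} (h : Near O γ₀ S₀ S₀') {n : ℕ}
    {x y : Ω} (hx : O.valuation x ≤ 1) (hy : O.valuation y ≤ 1) (hδ : O.valuation (y - x) ≤ δ)
    (hb : ∀ m : Fin n → Ω, (∀ j, m j ∈ S₀) → ∀ j, O.valuation (m j) ≤ C * O.valuation (∑ j, m j * x ^ (j : ℕ)))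
    (h1 : γ₀ * C ≤ γ) (h2 : δ * C ≤ γ) : Near O γ (polySet S₀ n x) (polySet S₀' n y) := by
  constructor
  · rintro z ⟨m, hm, rfl⟩
    choose m' hm' hmm using fun j => h.1 (m j) (hm j)
    exact ⟨_, ⟨m', hm', rfl⟩, valuation_sum_sub_le hγ₀ hx hy hδ h1 h2 m m' hmm (hb m hm)⟩
  · rintro z ⟨m', hm', rfl⟩
    choose m hm hmm using fun j => h.2 (m' j) (hm' j)
    exact ⟨_, ⟨m, hm, rfl⟩, valuation_sum_sub_le hγ₀ hx hy hδ h1 h2 m m' hmm (hb m hm)⟩

section Adjoin

variable {K : Type u} [Field K] [Algebra K Ω]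

open IntermediateField Polynomial

/-- If `y^n` is a combination of lower powers of `y` with coefficients in `H`, the field `H(y)` is the set of
polynomial expressions of degree `< n` in `y`. -/
theorem sup_adjoin_eq_polySet (H : IntermediateField K Ω) {n : ℕ} (hn : 0 < n) {y : Ω} (f : H[X]) (hf : f.Monic)
    (hfn : f.natDegree = n) (hy : aeval y f = 0) :
    ((H ⊔ adjoin K {y} : IntermediateField K Ω) : Set Ω) = polySet (H : Set Ω) n y := by
  have hyi : IsIntegral H y := ⟨f, hf, hy⟩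
  ext z
  constructor
  · intro hz
    have h1 : z ∈ H⟮y⟯ := by
      have h2 : (H ⊔ adjoin K {y} : IntermediateField K Ω) ≤ (H⟮y⟯).restrictScalars K := by
        refine sup_le (fun x hx => ?_) (adjoin_le_iff.2 ?_)
        · exact (H⟮y⟯).algebraMap_mem ⟨x, hx⟩
        · rw [Set.singleton_subset_iff]
          exact mem_adjoin_simple_self H y
      exact h2 hz
    have h3 : z ∈ Algebra.adjoin H {y} := by
      rw [← adjoin_simple_toSubalgebra_of_isAlgebraic hyi.isAlgebraic]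
      exact h1
    obtain ⟨P, rfl⟩ := Algebra.adjoin_mem_exists_aeval (R := H) y h3
    have h4 : aeval y P = aeval y (P %ₘ f) := by
      conv_lhs => rw [← modByMonic_add_div P f]
      rw [map_add, map_mul, hy, zero_mul, add_zero]
    rw [h4]
    have hdeg : (P %ₘ f).natDegree < n := by
      rw [← hfn]
      refine natDegree_modByMonic_lt P hf ?_
      rintro rfl
      rw [natDegree_one] at hfn
      omega
    refine ⟨fun j => (((P %ₘ f).coeff j : H) : Ω), fun j => ((P %ₘ f).coeff j).2, ?_⟩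
    rw [aeval_eq_sum_range' hdeg, ← Fin.sum_univ_eq_sum_range (fun i => (P %ₘ f).coeff i • y ^ i) n]
    rfl
  · rintro ⟨m, hm, rfl⟩
    refine sum_mem fun j _ => mul_mem ((le_sup_left : H ≤ H ⊔ adjoin K {y}) (hm j)) (pow_mem ?_ _)
    exact (le_sup_right : adjoin K {y} ≤ H ⊔ adjoin K {y}) (mem_adjoin_simple_self K y)

end Adjoin

end Groth.Agent.Etalg.H245.Close
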