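import Groth.Agent.CalgC.SepField
import Mathlib.FieldTheory.IntermediateField.Adjoin.Algebra
import Mathlib.FieldTheory.IntermediateField.Basic
import Mathlib.Algebra.Algebra.Subalgebra.Pointwise

/-!
# Linear disjointness of a separable and a purely inseparable extension, elementwise form
-/

set_option autoImplicit false
universe u

namespace Groth.Agent.Etalg.H245.Disj

open IntermediateField Groth.Agent.CalgC.SepField

variable {K Ω : Type u} [Field K] [Field Ω] [Algebra K Ω]

theorem linearIndependent_pow_pow {k F : Type u} [Field k] [Field F] [Algebra k F] {p : ℕ}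
    (h : PowIndep k F p) {ι : Type*} {v : ι → F} (hv : LinearIndependent k v) (n : ℕ) :
    LinearIndependent k (fun i => v i ^ p ^ n) := by
  induction n with
  | zero => simpa using hv
  | succ n ih =>
    have h1 := h.linearIndependent ih
    simpa only [← pow_mul, ← pow_succ] using h1

/-- elements of `F ⊔ E₀` are combinations of an `Es`-basis of `F` with coefficients in `E₀`. -/
theorem exists_finsupp {F E₀ Es : IntermediateField K Ω} (hEsF : Es ≤ F) (hEs0 : Es ≤ E₀)
    [Algebra.IsAlgebraic K E₀] {ι : Type*} (b : Module.Basis ι Es (extendScalars hEsF)) (z : Ω)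
    (hz : z ∈ F ⊔ E₀) :
    ∃ e : ι →₀ Ω, (∀ i, e i ∈ E₀) ∧ z = e.sum fun i r => r * ((b i : extendScalars hEsF) : Ω) := by
  classical
  have h1 : z ∈ (F ⊔ E₀).toSubalgebra := hz
  rw [sup_toSubalgebra_of_isAlgebraic_right, ← Subalgebra.mem_toSubmodule, ← Subalgebra.mul_toSubmodule] at h1
  refine Submodule.mul_induction_on h1 (fun f hf e he => ?_) (fun x y hx hy => ?_)
  · let f' : extendScalars hEsF := ⟨f, hf⟩
    refine ⟨(b.repr f').mapRange (fun c : Es => (c : Ω) * e) (by simp), fun i => ?_, ?_⟩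
    · rw [Finsupp.mapRange_apply]
      exact mul_mem (hEs0 (b.repr f' i).2) he
    · rw [Finsupp.sum_mapRange_index (by simp)]
      have h2 : (((b.repr f').sum fun i c => c • b i : extendScalars hEsF) : Ω) = f := by
        rw [← Finsupp.linearCombination_apply, b.linearCombination_repr]
      conv_lhs => rw [← h2]
      rw [Finsupp.sum, Finsupp.sum, AddSubmonoidClass.coe_finsetSum, Finset.sum_mul]
      refine Finset.sum_congr rfl fun i _ => ?_
      show (((b.repr f') i : Es) : Ω) * ((b i : extendScalars hEsF) : Ω) * e = _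
      ring
  · obtain ⟨e, he, rfl⟩ := hx
    obtain ⟨e', he', rfl⟩ := hy
    refine ⟨e + e', fun i => by rw [Finsupp.add_apply]; exact add_mem (he i) (he' i), ?_⟩
    rw [Finsupp.sum_add_index' (by simp) (fun i a b => add_mul _ _ _)]

/-- If `F/Es` satisfies MacLane's condition, `E₁/Es` is purely inseparable of bounded exponent and
`Es ≤ E₀ ≤ E₁`, then `(F ⊔ E₀) ⊓ E₁ = E₀`. -/
theorem mem_of_mem_sup {p : ℕ} [ExpChar Ω p] {F E₀ E₁ Es : IntermediateField K Ω} (hEsF : Es ≤ F) (hEs0 : Es ≤ E₀)
    (h01 : E₀ ≤ E₁) [Algebra.IsAlgebraic K E₀] (n : ℕ) (hq : ∀ e ∈ E₁, e ^ p ^ n ∈ Es)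
    (hP : PowIndep Es (extendScalars hEsF) p) {x : Ω} (hx : x ∈ E₁) (hx' : x ∈ F ⊔ E₀) : x ∈ E₀ := by
  classical
  let b := Module.Basis.ofVectorSpace Es (extendScalars hEsF)
  obtain ⟨e, he, hxe⟩ := exists_finsupp hEsF hEs0 b x hx'
  let c := b.repr 1
  have hc : ((c.sum fun i r => r • b i : extendScalars hEsF)) = 1 := by
    rw [← Finsupp.linearCombination_apply, b.linearCombination_repr]
  have hc' : (∑ i ∈ c.support, ((c i : Es) : Ω) * ((b i : extendScalars hEsF) : Ω)) = 1 := by
    have h1 := congrArg (fun z : extendScalars hEsF => (z : Ω)) hc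
    rw [Finsupp.sum] at h1
    simp only [AddSubmonoidClass.coe_finsetSum] at h1
    exact h1
  -- the common support
  let T := c.support ∪ e.support
  have hxe' : x = ∑ i ∈ T, e i * ((b i : extendScalars hEsF) : Ω) := by
    rw [hxe, Finsupp.sum]
    refine Finset.sum_subset Finset.subset_union_right fun i _ hi => ?_
    rw [Finsupp.notMem_support_iff.1 hi, zero_mul]
  have hc'' : (∑ i ∈ T, ((c i : Es) : Ω) * ((b i : extendScalars hEsF) : Ω)) = 1 := by
    rw [← hc']
    symm
    refine Finset.sum_subset Finset.subset_union_left fun i _ hi => ?_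
    rw [Finsupp.notMem_support_iff.1 hi]
    simp
  have hsum : ∑ i ∈ T, (e i - x * ((c i : Es) : Ω)) * ((b i : extendScalars hEsF) : Ω) = 0 := by
    simp only [sub_mul, Finset.sum_sub_distrib]
    rw [← hxe']
    have h2 : ∑ i ∈ T, x * ((c i : Es) : Ω) * ((b i : extendScalars hEsF) : Ω) = x * 1 := by
      rw [← hc'', Finset.mul_sum]
      exact Finset.sum_congr rfl fun i _ => by ring
    rw [h2, mul_one, sub_self]
  have hpow : ∑ i ∈ T, (e i - x * ((c i : Es) : Ω)) ^ p ^ n * ((b i : extendScalars hEsF) : Ω) ^ p ^ n = 0 := by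
    have h3 := congrArg (iterateFrobenius Ω p n) hsum
    rw [map_sum, map_zero] at h3
    rw [← h3]
    refine Finset.sum_congr rfl fun i _ => ?_
    rw [iterateFrobenius_def, mul_pow]
  have hmem : ∀ i, (e i - x * ((c i : Es) : Ω)) ^ p ^ n ∈ Es := fun i =>
    hq _ (sub_mem (h01 (he i)) (mul_mem hx (h01 (hEs0 (c i).2))))
  have hli := linearIndependent_pow_pow hP b.linearIndependent n
  rw [linearIndependent_iff'] at hli
  have hz : ∀ i ∈ T, e i = x * ((c i : Es) : Ω) := by
    intro i hi
    have h4 := hli T (fun i => ⟨_, hmem i⟩) (by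
      apply Subtype.ext
      rw [AddSubmonoidClass.coe_finsetSum]
      exact hpow) i hi
    have h5 : (e i - x * ((c i : Es) : Ω)) ^ p ^ n = 0 := congrArg Subtype.val h4
    have h6 := eq_zero_of_pow_eq_zero h5
    exact sub_eq_zero.1 h6
  have hne : ∃ i ∈ T, c i ≠ 0 := by
    by_contra hcon
    push Not at hcon
    rw [Finset.sum_eq_zero (fun i hi => by rw [hcon i hi]; simp)] at hc''
    exact zero_ne_one hc''
  obtain ⟨i, hi, hci⟩ := hne
  have hci' : ((c i : Es) : Ω) ≠ 0 := fun h => hci (Subtype.ext h)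
  have h7 : x = e i * ((c i : Es) : Ω)⁻¹ := by
    rw [hz i hi, mul_assoc, mul_inv_cancel₀ hci', mul_one]
  rw [h7]
  exact mul_mem (he i) (inv_mem (hEs0 (c i).2))

end Groth.Agent.Etalg.H245.Disj
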